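import Cfsg.Agent.H821.K547.Defs
import Cfsg.Agent.KFacts.HS.Base
import Cfsg.Agent.HN.FusK0
import Cfsg.Agent.H819.K4.HS

/-!
# S4547: the row `HS` (helper587)

Ranks of Sylow 2-subgroups from elementary abelian quotients:

* `rk_of_sq` : `P` has a normal subgroup `N` of index at least `2 ^ n` which contains all squares;
* `d3_of_rk` : one Sylow 2-subgroup is enough;
* `d3_of_hom` : `f : H → G` surjective, `Q` a Sylow 2-subgroup of `H`, `ker f ≤ N ≤ Q`, `N` contains the squares of `Q`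
  and `8 |N| ≤ |Q|`: then `D3 G`.

The Sylow 2-subgroup `S` of `H0 = 2.HS.2` (order `2 ^ 11`) has the polycyclic subgroup `P 7` (order `2 ^ 7`) with
`S / P 7` elementary abelian of order 16. The characters of degree 77 and 175 are spherical functions on the edges of the
Higman-Sims graph, so they are invariant under all automorphisms.

* `row` : the row.
-/

set_option autoImplicit false

open Subgroup

namespace Cfsg.Agent.H587.K547

open Cfsg.Agent.H821.K547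

universe u v

theorem rk_of_sq {Γ : Type u} [Group Γ] [Finite Γ] {n : ℕ} (N : Subgroup Γ) [N.Normal] (h : ∀ x : Γ, x * x ∈ N)
    (hn : 2 ^ n ≤ N.index) : Rk n Γ := by
  classical
  have hsq : ∀ x : Γ ⧸ N, x * x = 1 := by
    intro x
    obtain ⟨g, rfl⟩ := QuotientGroup.mk_surjective x
    rw [← QuotientGroup.mk_mul, QuotientGroup.eq_one_iff]
    exact h g
  have hcomm : ∀ x y : Γ ⧸ N, x * y = y * x := by
    intro x y
    have hx : x⁻¹ = x := inv_eq_of_mul_eq_one_left (hsq x)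
    have hy : y⁻¹ = y := inv_eq_of_mul_eq_one_left (hsq y)
    have h1 := hsq (x * y)
    have h2 : x * y = (x * y)⁻¹ := eq_inv_of_mul_eq_one_left h1
    rw [h2, mul_inv_rev, hx, hy]
  let _ : CommGroup (Γ ⧸ N) := { (inferInstance : Group (Γ ⧸ N)) with mul_comm := hcomm }
  let _ : Module (ZMod 2) (Additive (Γ ⧸ N)) := AddCommGroup.zmodModule (n := 2) fun x => by
    rw [two_nsmul]
    exact hsq (Additive.toMul x)
  have hfin : Finite (Additive (Γ ⧸ N)) := inferInstanceAs (Finite (Γ ⧸ N))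
  have hcard : Nat.card (Additive (Γ ⧸ N)) = 2 ^ Module.finrank (ZMod 2) (Additive (Γ ⧸ N)) := by
    rw [Module.natCard_eq_pow_finrank (K := ZMod 2), Nat.card_zmod]
  have hle : n ≤ Module.finrank (ZMod 2) (Additive (Γ ⧸ N)) := by
    have h1 : 2 ^ n ≤ 2 ^ Module.finrank (ZMod 2) (Additive (Γ ⧸ N)) := by
      rw [← hcard]
      exact hn
    exact (Nat.pow_le_pow_iff_right (by norm_num)).1 h1
  let b := Module.finBasis (ZMod 2) (Additive (Γ ⧸ N))
  let L : Additive (Γ ⧸ N) →+ (Fin n → ZMod 2) :=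
    { toFun := fun x i => b.equivFun x (Fin.castLE hle i)
      map_zero' := by ext i; simp
      map_add' := fun x y => by ext i; simp }
  have hL : Function.Surjective L := by
    intro y
    refine ⟨b.equivFun.symm (fun j => if hj : (j : ℕ) < n then y ⟨j, hj⟩ else 0), ?_⟩
    ext i
    change b.equivFun (b.equivFun.symm _) (Fin.castLE hle i) = y i
    rw [LinearEquiv.apply_symm_apply]
    simp
  refine ⟨(AddMonoidHom.toMultiplicativeRight L).comp (QuotientGroup.mk' N), ?_⟩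
  intro y
  obtain ⟨x, hx⟩ := hL (Multiplicative.toAdd y)
  obtain ⟨g, hg⟩ := QuotientGroup.mk_surjective (Additive.toMul x)
  refine ⟨g, ?_⟩
  change Multiplicative.ofAdd (L (Additive.ofMul (g : Γ ⧸ N))) = y
  rw [hg]
  exact congrArg Multiplicative.ofAdd hx

theorem rk_congr {P : Type u} {P' : Type v} [Group P] [Group P'] (e : P ≃* P') {n : ℕ} (h : Rk n P) : Rk n P' := by
  obtain ⟨f, hf⟩ := h
  exact ⟨f.comp e.symm.toMonoidHom, hf.comp e.symm.surjective⟩

theorem d3_of_rk {G : Type u} [Group G] [Finite G] (Q : Sylow 2 G) (h : Rk 3 Q) : D3 G := by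
  have : Fact (Nat.Prime 2) := ⟨Nat.prime_two⟩
  exact fun Q' => rk_congr (Sylow.equiv Q Q') h

theorem d3_of_hom {H : Type v} {G : Type u} [Group H] [Group G] [Finite H] (f : H →* G) (hf : Function.Surjective f)
    (Q : Sylow 2 H) (N : Subgroup H) (hN : N ≤ (Q : Subgroup H)) (hker : f.ker ≤ N)
    (hsq : ∀ x ∈ (Q : Subgroup H), x * x ∈ N) (hnorm : ∀ g ∈ (Q : Subgroup H), ∀ n ∈ N, g * n * g⁻¹ ∈ N)
    (hcard : 2 ^ 3 * Nat.card N ≤ Nat.card (Q : Subgroup H)) : D3 G := by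
  have : Fact (Nat.Prime 2) := ⟨Nat.prime_two⟩
  have hfG : Finite G := Finite.of_surjective f hf
  refine d3_of_rk (Q.mapSurjective hf) ?_
  let fP : ↥(Q : Subgroup H) →* ↥((Q : Subgroup H).map f) := f.subgroupMap (Q : Subgroup H)
  have hfP : Function.Surjective fP := f.subgroupMap_surjective (Q : Subgroup H)
  have hNn : (N.subgroupOf (Q : Subgroup H)).Normal := by
    constructor
    intro n hn g
    rw [mem_subgroupOf] at hn ⊢
    exact hnorm g g.2 n hn
  have hNn' : ((N.subgroupOf (Q : Subgroup H)).map fP).Normal := hNn.map fP hfP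
  have key : Rk 3 ↥((Q : Subgroup H).map f) := by
    refine rk_of_sq ((N.subgroupOf (Q : Subgroup H)).map fP) ?_ ?_
    · intro x
      obtain ⟨y, rfl⟩ := hfP x
      exact ⟨y * y, mem_subgroupOf.2 (hsq y y.2), map_mul fP y y⟩
    · have hk : fP.ker ≤ N.subgroupOf (Q : Subgroup H) := by
        intro y hy
        rw [mem_subgroupOf]
        apply hker
        exact congrArg Subtype.val hy
      rw [Subgroup.index_map_eq _ hfP hk]
      have h1 := (N.subgroupOf (Q : Subgroup H)).card_mul_index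
      have h2 : Nat.card (N.subgroupOf (Q : Subgroup H)) = Nat.card N :=
        Nat.card_congr (Subgroup.subgroupOfEquivOfLe hN).toEquiv
      rw [h2] at h1
      rw [← h1, mul_comm] at hcard
      exact Nat.le_of_mul_le_mul_left hcard Nat.card_pos
  exact key

section hs

open Cfsg Equiv Cfsg.Agent.HN Cfsg.Agent.HN.Pres Cfsg.Agent.HN.HS100 Cfsg.Agent.HN.H0Basic Cfsg.Agent.HN.PC
open Cfsg.Agent.KFacts.HS Cfsg.Agent.SporadicA.PermTab Cfsg.Agent.H601.K4 Cfsg.Agent.Characters.Core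
open Cfsg.Agent.H819.K4 Cfsg.Agent.H819.K4.HSCol Cfsg.Agent.H678.DG.PairRep Cfsg.Agent.H816.IMEig
open scoped commutatorElement

/-! ### the Sylow subgroup -/

theorem chk_sq : ∀ k < 11, ∀ j ∈ Syl.sq k, j < 7 := by decide

theorem sq_mem {x : H0} (hx : x ∈ Syl.S) : x * x ∈ Syl.P 7 := by
  have h : ∀ x ∈ Syl.S, x ∈ Syl.S ∧ x * x ∈ Syl.P 7 := by
    intro x hx
    change x ∈ Subgroup.closure _ at hx
    induction hx using Subgroup.closure_induction with
    | mem x hx =>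
      obtain ⟨k, hk, rfl⟩ := hx
      refine ⟨Syl.s_mem_S hk, ?_⟩
      rw [Syl.sq_rel hk]
      exact Syl.hw_cat_mem fun j hj => mem_Pc (chk_sq k hk j hj)
    | one => exact ⟨one_mem _, by rw [mul_one]; exact one_mem _⟩
    | mul x y _ _ hx hy =>
      refine ⟨mul_mem hx.1 hy.1, ?_⟩
      have h1 := Syl.comm_S_S x⁻¹ (inv_mem hx.1) y hy.1
      have e : x * y * (x * y) = (x * x) * ⁅x⁻¹, y⁆ * (y * y) := by
        rw [commutatorElement_def]; group
      rw [e]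
      exact mul_mem (mul_mem hx.2 h1) hy.2
    | inv x _ hx =>
      refine ⟨inv_mem hx.1, ?_⟩
      rw [← mul_inv_rev]
      exact inv_mem hx.2
  exact (h x hx).2

theorem card_P7 : Nat.card (Syl.P 7) = 2 ^ 7 :=
  (card_Pc (fun _ hk => Syl.step (by omega)) (fun _ hk => Syl.s_notMem (by omega))).2

theorem τ_mem_P7 : τ ∈ Syl.P 7 := Syl.s_zero ▸ mem_Pc (by norm_num)

theorem P7_le_S : Syl.P 7 ≤ Syl.S := Pc_mono (by norm_num)

/-- `D3` for the groups covered by `2.HS` -/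
theorem d3_K {G : Type u} [Group G] (f : K →* G) (hf : Function.Surjective f)
    (hk : ∀ k : K, f k = 1 → (k : H0) = 1 ∨ (k : H0) = τ) : D3 G := by
  refine d3_of_hom f hf FusK0.syl0 ((Syl.P 7).subgroupOf K) ?_ ?_ ?_ ?_ ?_
  · intro x hx
    exact FusK0.mem_S0.2 (P7_le_S (mem_subgroupOf.1 hx))
  · intro x hx
    rw [mem_subgroupOf]
    rcases hk x hx with h | h
    · rw [h]; exact one_mem _
    · rw [h]; exact τ_mem_P7
  · intro x hx
    exact mem_subgroupOf.2 (sq_mem (FusK0.mem_S0.1 hx))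
  · intro g hg n hn
    rw [mem_subgroupOf] at hn ⊢
    exact Syl.norm_P7 g (FusK0.mem_S0.1 hg) n hn
  · have h1 : Nat.card ((Syl.P 7).subgroupOf K) ≤ 2 ^ 7 := by
      rw [← card_P7]
      have hfin : Finite (Syl.P 7) := Nat.finite_of_card_ne_zero (by rw [card_P7]; norm_num)
      exact Nat.card_le_card_of_injective (fun x => (⟨x.1.1, mem_subgroupOf.1 x.2⟩ : Syl.P 7))
        fun x y h => Subtype.ext (Subtype.ext (congrArg (fun z : Syl.P 7 => (z : H0)) h))
    rw [FusK0.coe_syl0, FusK0.card_S0]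
    omega

/-- `D3` for the groups covered by `2.HS.2` -/
theorem d3_H0 {G : Type u} [Group G] (f : H0 →* G) (hf : Function.Surjective f)
    (hk : ∀ k : H0, f k = 1 → k = 1 ∨ k = τ) : D3 G := by
  have hfin : Finite H0 := inferInstance
  refine d3_of_hom f hf Syl.syl (Syl.P 7) P7_le_S ?_ ?_ ?_ ?_
  · intro x hx
    rcases hk x hx with h | h
    · rw [h]; exact one_mem _
    · rw [h]; exact τ_mem_P7
  · exact fun x hx => sq_mem hx
  · exact Syl.norm_P7
  · rw [Syl.coe_syl, Syl.card_S, card_P7]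
    norm_num

/-! ### the invariant characters -/

theorem hRA : ∀ g ∈ autG 100 adjA, ∀ i j : Fin 100, R (g i) (g j) = R i j := by
  intro g hg i j
  unfold R
  rw [hg i j]

instance actA : MulAction ↥(autG 100 adjA) E where
  smul g k := act dat hRA g k
  one_smul := act_one dat hRA
  mul_smul g h k := act_mul dat hRA g h k

theorem smul_valA (g : ↥(autG 100 adjA)) (k : E) : (g • k).val =
    ix (((g : Perm (Fin 100)) ⟨ea k.val, dat.lta k.val k.2⟩ : Fin 100) : ℕ)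
      (((g : Perm (Fin 100)) ⟨eb k.val, dat.ltb k.val k.2⟩ : Fin 100) : ℕ) := rfl

theorem cr_mapA {g : Perm (Fin 100)} (hg : g ∈ autG 100 adjA) (a b c d : Fin 100) :
    cr (g a) (g b) (g c) (g d) = cr a b c d := by
  rw [cr_eq, cr_eq, beq_map, beq_map, beq_map, beq_map, hRA g hg, hRA g hg, hRA g hg, hRA g hg]

theorem cn_smulA (g : ↥(autG 100 adjA)) (k l : E) : cn (g • k).val (g • l).val = cn k.val l.val := by
  have h1 := dat.eq _ (Fin.is_lt ((g : Perm (Fin 100)) ⟨ea k.val, dat.lta k.val k.2⟩)) _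
    (Fin.is_lt ((g : Perm (Fin 100)) ⟨eb k.val, dat.ltb k.val k.2⟩))
    (by rw [hRA g g.2]; exact dat.rel k.val k.2)
  have h2 := dat.eq _ (Fin.is_lt ((g : Perm (Fin 100)) ⟨ea l.val, dat.lta l.val l.2⟩)) _
    (Fin.is_lt ((g : Perm (Fin 100)) ⟨eb l.val, dat.ltb l.val l.2⟩))
    (by rw [hRA g g.2]; exact dat.rel l.val l.2)
  rw [← smul_valA] at h1 h2
  have h3 := cr_mapA g.2 ⟨ea k.val, dat.lta k.val k.2⟩ ⟨eb k.val, dat.ltb k.val k.2⟩ ⟨ea l.val, dat.lta l.val l.2⟩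
    ⟨eb l.val, dat.ltb l.val l.2⟩
  unfold cn
  refine Eq.trans ?_ h3
  rcases h1 with ⟨e1, e2⟩ | ⟨e1, e2⟩ <;> rcases h2 with ⟨e3, e4⟩ | ⟨e3, e4⟩ <;> rw [e1, e2, e3, e4]
  · exact cr_right _ _ _ _
  · exact cr_left _ _ _ _
  · rw [cr_left, cr_right]

theorem c_smulA (g : ↥(autG 100 adjA)) (k l : E) : c (g • k) (g • l) = c k l := by
  unfold c
  simp only [cn_smulA]

/-- the values are invariant -/
theorem sum_conj {p : Perm (Fin 100)} (hp : p ∈ autG 100 adjA) {q q' : Q}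
    (h : (q' : Perm (Fin 100)) = p * q * p⁻¹) (ω : Fin 5 → ℚ) :
    ∑ x : E, ω (c x (q' • x)) = ∑ x : E, ω (c x (q • x)) := by
  rw [← Equiv.sum_comp (MulAction.toPerm (⟨p, hp⟩ : ↥(autG 100 adjA)))]
  refine Finset.sum_congr rfl fun y _ => ?_
  change ω (c ((⟨p, hp⟩ : ↥(autG 100 adjA)) • y) (q' • ((⟨p, hp⟩ : ↥(autG 100 adjA)) • y))) = _
  have h1 : q' • ((⟨p, hp⟩ : ↥(autG 100 adjA)) • y) = (⟨p, hp⟩ : ↥(autG 100 adjA)) • (q • y) := by
    have h2 : (⟨q', Q_le q'.2⟩ : ↥(autG 100 adjA)) * ⟨p, hp⟩ = ⟨p, hp⟩ * ⟨q, Q_le q.2⟩ := by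
      apply Subtype.ext
      change (q' : Perm (Fin 100)) * p = p * q
      rw [h, inv_mul_cancel_right]
    change (⟨q', Q_le q'.2⟩ : ↥(autG 100 adjA)) • ((⟨p, hp⟩ : ↥(autG 100 adjA)) • y) =
      (⟨p, hp⟩ : ↥(autG 100 adjA)) • ((⟨q, Q_le q.2⟩ : ↥(autG 100 adjA)) • y)
    rw [← mul_smul, ← mul_smul, h2]
  rw [h1, c_smulA]

theorem exists_inv {f : ℕ} {θ : ℚ} {ω : Fin 5 → ℚ} (L : Fin 5 → Fin 5 → ℚ)
    (h1 : ω 0 = 1)
    (h2 : ∀ u, ∑ w, ((∑ w', t 2 w' : ℕ) : ℚ) * (t u w : ℚ) * ω w = θ * ((∑ w, t u w : ℕ) : ℚ) * ω u)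
    (h3 : ∀ i j, ∑ l, L i l * (((∑ w', t 2 w' : ℕ) : ℚ) * (t l j : ℚ) - if l = j then θ * ((∑ w, t l w : ℕ) : ℚ) else 0) =
      (if i = j then 1 else 0) - if j = 0 then ω i else 0)
    (h4 : (f : ℚ) * ∑ u, ((∑ w, t u w : ℕ) : ℚ) * ω u ^ 2 = 1100) :
    ∃ χ : Q → ℂ, IsIrrCharacter Q χ ∧ χ 1 = f ∧ (∀ g, ∃ q : ℚ, χ g = q) ∧ ∀ σ : Q ≃* Q, ∀ g, χ (σ g) = χ g := by
  have hE := ColVal.eig_of (a := 2) (o := 0) (t := t) (θ := θ) (ω := ω) L h1 h2 h3
  rw [← col_z0] at hE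
  obtain ⟨χ, hχ, hd, hv⟩ := ColVal.exists_val col ht hE (f := f) (by rw [card_E', h4]; norm_num)
  refine ⟨χ, hχ, hd, fun g => ⟨_, hv g⟩, fun σ g => ?_⟩
  obtain ⟨p, hp, hσ⟩ := AutHS.exists_perm σ
  rw [hv, hv, sum_conj hp (hσ g)]

theorem inv_77 : ∃ χ : Q → ℂ, IsIrrCharacter Q χ ∧ χ 1 = (77 : ℕ) ∧ (∀ g, ∃ q : ℚ, χ g = q) ∧
    ∀ σ : Q ≃* Q, ∀ g, χ (σ g) = χ g :=
  exists_inv (θ := 5) (ω := ![1, 11/21, 1/21, -1/84, -1/14])
    ![![0, 0, 0, 0, 0], ![5/168, -3/280, -1/280, 1/840, 0], ![1/105, 0, 0, 0, 0], ![-1/420, 1/3360, 0, 0, 0],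
      ![-1/560, 1/840, 1/1680, -1/6720, 0]]
    rfl (by decide +kernel) (by decide +kernel) (by decide +kernel)

theorem inv_175 : ∃ χ : Q → ℂ, IsIrrCharacter Q χ ∧ χ 1 = (175 : ℕ) ∧ (∀ g, ∃ q : ℚ, χ g = q) ∧
    ∀ σ : Q ≃* Q, ∀ g, χ (σ g) = χ g :=
  exists_inv (θ := 17) (ω := ![1, -1/21, 17/105, -1/21, 2/35])
    ![![0, 0, 0, 0, 0], ![-151/20832, -11/6944, -5/6944, 5/20832, 0], ![1/105, 0, 0, 0, 0],
      ![-289/83328, 5/83328, -3/27776, 1/27776, 0], ![359/69440, 1/5952, 61/208320, -1/20832, 0]]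
    rfl (by decide +kernel) (by decide +kernel) (by decide +kernel)

/-! ### the row -/

variable {S : Type u} [Group S]

theorem ginv3 (h : Spor.IsoHS S) (τ : MulAut S) : GInv3 τ := by
  obtain ⟨e⟩ := HS.exists_iso h
  have hfin : Finite S := Finite.of_equiv Q e.symm.toEquiv
  have hC := HS.twoC h
  obtain ⟨a, ha1, ha2, ha3, ha4⟩ := inv_77
  obtain ⟨b, hb1, hb2, hb3, hb4⟩ := inv_175
  have ga := HS.good_comp hC e ha1 ha2 (by norm_num) ha3
  have gb := HS.good_comp hC e hb1 hb2 (by norm_num) hb3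
  have hinv : ∀ {χ : Q → ℂ}, (∀ σ : Q ≃* Q, ∀ g, χ (σ g) = χ g) → ∀ x, χ (e (τ x)) = χ (e x) := by
    intro χ hχ x
    have h1 := hχ ((e.symm.trans τ).trans e) (e x)
    change χ (e (τ (e.symm (e x)))) = _ at h1
    rwa [MulEquiv.symm_apply_apply] at h1
  have v1 : (fun _ : S => (1 : ℂ)) 1 = 1 := rfl
  have va : (fun s => a (e s)) 1 = 77 := by
    change a (e 1) = _
    rw [map_one, ha2]; norm_num
  have vb : (fun s => b (e s)) 1 = 175 := by
    change b (e 1) = _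
    rw [map_one, hb2]; norm_num
  refine ⟨![fun _ => 1, fun s => a (e s), fun s => b (e s)], ?_, ?_⟩
  · intro i j hij
    have h1 := congrFun hij 1
    fin_cases i <;> fin_cases j <;>
      first
      | rfl
      | (exfalso
         simp only [Fin.zero_eta, Fin.mk_one, Fin.reduceFinMk, Matrix.cons_val_zero, Matrix.cons_val_one,
           Matrix.cons_val] at h1
         simp only [map_one, ha2, hb2] at h1
         norm_num at h1)
  · intro i
    fin_cases i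
    · exact ⟨H329.K4.good_one hC, fun x => rfl⟩
    · exact ⟨ga, hinv ha4⟩
    · exact ⟨gb, hinv hb4⟩

theorem d3_autExt (h : Spor.IsoHS S) {τ' : MulAut S} (hτ : ¬ IsInn τ') : D3 (AutExt τ') := by
  obtain ⟨D⟩ := exists_mod h
  obtain ⟨x, hx⟩ := D.au_surj τ'
  have hxK : x ∉ K := by
    intro hxK
    apply hτ
    refine ⟨D.π ⟨x, hxK⟩, fun s => ?_⟩
    rw [← hx]
    exact DFunLike.congr_fun (D.au_K ⟨x, hxK⟩) s
  have hmem : ∀ y : H0, D.au y ∈ AutExt τ' := by
    have hin : ∀ y ∈ K, D.au y ∈ AutExt τ' := by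
      intro y hy
      refine mem_sup_left ⟨D.π ⟨y, hy⟩, ?_⟩
      rw [← D.au_K]
    intro y
    by_cases hy : y ∈ K
    · exact hin y hy
    · have h1 : y * x⁻¹ ∈ K := by
        rw [mul_mem_iff_of_index_two FusK0.index_K]
        simp only [inv_mem_iff]
        exact iff_of_false hy hxK
      have h2 : D.au y = D.au (y * x⁻¹) * τ' := by
        rw [← hx, ← map_mul, inv_mul_cancel_right]
      rw [h2]
      exact mul_mem (hin _ h1) (mem_sup_right (mem_zpowers τ'))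
  refine d3_H0 (D.au.codRestrict (AutExt τ') hmem) ?_ ?_
  · rintro ⟨α, hα⟩
    obtain ⟨y, hy⟩ := D.au_surj α
    exact ⟨y, Subtype.ext hy⟩
  · intro k hk
    exact (D.au_ker k).1 (congrArg Subtype.val hk)

/-- **S4547, the row `HS`** -/
theorem row (h : Spor.IsoHS S) : Row S where
  base := by
    left
    obtain ⟨D⟩ := exists_mod h
    exact ⟨HS.good5 h, d3_K D.π D.surj fun k hk => (D.ker k).1 hk⟩
  ext τ' _ hτ := iff_of_true (ginv3 h τ') (d3_autExt h hτ)

end hs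

end Cfsg.Agent.H587.K547
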